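import Mathlib

/-!
# Lengths of subquotients
-/

universe u v w

namespace Groth.Agent.CycAlgLib

variable {R : Type u} [CommRing R] {M : Type v} [AddCommGroup M] [Module R M]
  {N : Type w} [AddCommGroup N] [Module R N]

/-- length of A/(A ∩ B) -/
noncomputable def rlen (A B : Submodule R M) : ℕ∞ := Module.length R (↥A ⧸ B.submoduleOf A)

theorem rlen_inf (A B : Submodule R M) : rlen A (A ⊓ B) = rlen A B := by
  refine (Submodule.quotEquivOfEq _ _ ?_).length_eq
  ext x
  simp [Submodule.submoduleOf]

theorem rlen_eq_zero {A B : Submodule R M} (h : A ≤ B) : rlen A B = 0 := by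
  rw [rlen, Module.length_eq_zero_iff, Submodule.Quotient.subsingleton_iff, eq_top_iff]
  exact fun x _ => h x.2

theorem rlen_map (f : M →ₗ[R] N) (A B : Submodule R M) :
    rlen (A.map f) (B.map f) = rlen A (B ⊔ LinearMap.ker f) := by
  let g : ↥A →ₗ[R] ↥(A.map f) ⧸ (B.map f).submoduleOf (A.map f) :=
    ((B.map f).submoduleOf (A.map f)).mkQ ∘ₗ (f.submoduleMap A)
  have hg : Function.Surjective g := (Submodule.mkQ_surjective _).comp (f.submoduleMap_surjective A)
  have hk : LinearMap.ker g = (B ⊔ LinearMap.ker f).submoduleOf A := by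
    rw [LinearMap.ker_comp, Submodule.ker_mkQ]
    ext x
    simp only [Submodule.submoduleOf, Submodule.mem_comap, ← Submodule.comap_map_eq]
    rfl
  exact ((g.quotKerEquivOfSurjective hg).symm.trans (Submodule.quotEquivOfEq _ _ hk)).length_eq

theorem rlen_sup (A B : Submodule R M) : rlen (A ⊔ B) B = rlen A B := by
  have h := rlen_map B.mkQ (A ⊔ B) B
  have h2 := rlen_map B.mkQ A B
  rw [Submodule.ker_mkQ, sup_idem] at h h2
  rw [← h, ← h2, Submodule.map_sup, show B.map B.mkQ = ⊥ by simp [Submodule.map_eq_bot_iff], sup_bot_eq]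

theorem rlen_trans {A B C : Submodule R M} (hBC : B ≤ C) (hCA : C ≤ A) : rlen A B = rlen A C + rlen C B := by
  have h : B.submoduleOf C ≤ (B.submoduleOf A).comap (Submodule.inclusion hCA) := fun x hx => hx
  have hi : Function.Injective (Submodule.mapQ _ _ (Submodule.inclusion hCA) h) := by
    rw [← LinearMap.ker_eq_bot, Submodule.ker_mapQ, ← le_bot_iff, Submodule.map_le_iff_le_comap, Submodule.comap_bot,
      Submodule.ker_mkQ]
    exact fun x hx => hx
  have hp : B.submoduleOf A ≤ C.submoduleOf A := fun x hx => hBC hx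
  have hs : Function.Surjective (Submodule.factor hp) := Submodule.factor_surjective hp
  have he : Function.Exact (Submodule.mapQ _ _ (Submodule.inclusion hCA) h) (Submodule.factor hp) := by
    intro q
    constructor
    · intro hq
      obtain ⟨x, rfl⟩ := Submodule.Quotient.mk_surjective _ q
      replace hq : (Submodule.Quotient.mk x : ↥A ⧸ C.submoduleOf A) = 0 := hq
      rw [Submodule.Quotient.mk_eq_zero] at hq
      exact ⟨Submodule.Quotient.mk ⟨x.1, hq⟩, by rw [Submodule.mapQ_apply]; rfl⟩
    · rintro ⟨q, rfl⟩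
      obtain ⟨x, rfl⟩ := Submodule.Quotient.mk_surjective _ q
      change (Submodule.Quotient.mk (Submodule.inclusion hCA x) : ↥A ⧸ C.submoduleOf A) = 0
      rw [Submodule.Quotient.mk_eq_zero]
      exact x.2
  rw [rlen, Module.length_eq_add_of_exact _ _ hi hs he, add_comm]
  rfl

theorem rlen_split (f : M →ₗ[R] N) {A B : Submodule R M} (h : B ≤ A) :
    rlen A B = rlen (A.map f) (B.map f) + rlen (A ⊓ LinearMap.ker f) B := by
  have hC : A ⊓ (B ⊔ LinearMap.ker f) = (A ⊓ LinearMap.ker f) ⊔ B := by
    rw [inf_comm A, sup_inf_assoc_of_le _ h, sup_comm, inf_comm]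
  rw [rlen_trans (C := (A ⊓ LinearMap.ker f) ⊔ B) le_sup_right (sup_le inf_le_left h), rlen_sup, ← hC, rlen_inf,
    ← rlen_map]

theorem rlen_bot (A : Submodule R M) : rlen A ⊥ = Module.length R A :=
  ((Submodule.quotEquivOfEqBot _ (by ext x; simp [Submodule.submoduleOf])).length_eq)

theorem rlen_top_bot : rlen (⊤ : Submodule R M) ⊥ = Module.length R M := by
  rw [rlen_bot, Module.length_top]

theorem rlen_mono_left {A A' : Submodule R M} (B : Submodule R M) (h : A' ≤ A) : rlen A' B ≤ rlen A B := by
  rw [← rlen_sup A' B, ← rlen_sup A B]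
  rw [rlen_trans (C := A' ⊔ B) le_sup_right (sup_le_sup_right h B)]
  exact le_add_self

theorem rlen_bot_map {f : M →ₗ[R] N} (hf : Function.Injective f) (A B : Submodule R M) :
    rlen (A.map f) (B.map f) = rlen A B := by
  rw [rlen_map, LinearMap.ker_eq_bot.mpr hf, sup_bot_eq]

theorem lt_top_of_add_left {a b : ℕ∞} (h : a + b < ⊤) : a < ⊤ := lt_of_le_of_lt le_self_add h

theorem lt_top_of_add_right {a b : ℕ∞} (h : a + b < ⊤) : b < ⊤ := lt_of_le_of_lt le_add_self h

open IsLocalRing in
theorem length_lt_top_of_support_subset [IsNoetherianRing R] [IsLocalRing R] [Module.Finite R M]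
    (h : Module.support R M ⊆ {closedPoint R}) : Module.length R M < ⊤ := by
  set J := Module.annihilator R M with hJ
  have : Ring.KrullDimLE 0 (R ⧸ J) := Ring.krullDimLE_zero_iff.mpr fun P hP => by
    have hm : (⟨P.comap (Ideal.Quotient.mk J), inferInstance⟩ : PrimeSpectrum R) ∈ Module.support R M := by
      rw [Module.support_eq_zeroLocus, PrimeSpectrum.mem_zeroLocus]
      intro x hx
      rw [SetLike.mem_coe, Ideal.mem_comap, Ideal.Quotient.eq_zero_iff_mem.mpr hx]
      exact zero_mem _
    have he := congrArg PrimeSpectrum.asIdeal (h hm)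
    rw [← Ideal.map_comap_of_surjective _ Ideal.Quotient.mk_surjective P,
      show P.comap (Ideal.Quotient.mk J) = maximalIdeal R from he]
    refine Ideal.IsMaximal.map_of_surjective_of_ker_le Ideal.Quotient.mk_surjective ?_
    rw [Ideal.mk_ker, ← show P.comap (Ideal.Quotient.mk J) = maximalIdeal R from he]
    intro x hx
    rw [Ideal.mem_comap, Ideal.Quotient.eq_zero_iff_mem.mpr hx]
    exact zero_mem _
  have : IsArtinianRing (R ⧸ J) := isArtinianRing_iff_krullDimLE_zero.mpr this
  have hfin : Module.length R (R ⧸ J) < ⊤ := by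
    rw [Module.length_eq_of_surjective (R := R ⧸ J) (S := R) (M := R ⧸ J) Ideal.Quotient.mk_surjective]
    exact Module.length_ne_top.lt_top
  obtain ⟨n, g, hg⟩ := Module.Finite.exists_fin (R := R) (M := M)
  let φ : (Fin n → R ⧸ J) →ₗ[R] M :=
    ∑ i, (Submodule.liftQ J (LinearMap.toSpanSingleton R M (g i))
      (fun x hx => Module.mem_annihilator.mp hx (g i))).comp (LinearMap.proj i)
  have hφ : Function.Surjective φ := by
    rw [← LinearMap.range_eq_top, eq_top_iff, ← hg, Submodule.span_le]
    rintro _ ⟨i, rfl⟩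
    refine ⟨Pi.single i (Submodule.Quotient.mk 1), ?_⟩
    rw [LinearMap.sum_apply, Finset.sum_eq_single i]
    · simp only [LinearMap.comp_apply, LinearMap.proj_apply, Pi.single_eq_same, Submodule.liftQ_apply,
        LinearMap.toSpanSingleton_apply, one_smul]
    · intro j _ hj; simp [hj]
    · simp
  refine lt_of_le_of_lt (Module.length_le_of_surjective φ hφ) ?_
  rw [Module.length_pi_of_fintype]
  exact WithTop.sum_lt_top.mpr fun i _ => hfin

end Groth.Agent.CycAlgLib
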