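import Groth.Prelude.Def_CycAlg
import Groth.Agent.CycAlgLib.RLen

/-!
# Herbrand quotients
-/

universe u v

open LinearMap
open scoped Pointwise

namespace Groth.Agent.CycAlgLib

variable {R : Type u} [CommRing R]

theorem length_perH {M N : Type v} [AddCommGroup M] [Module R M] [AddCommGroup N] [Module R N] (φ : M →ₗ[R] N)
    (ψ : N →ₗ[R] M) : Module.length R (CycAlg.perH φ ψ) = rlen (ker φ) (range ψ) := rfl

theorem enat_add_lt_top {a b : ℕ∞} : a + b < ⊤ ↔ a < ⊤ ∧ b < ⊤ := WithTop.add_lt_top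

theorem toNat_cast_add {a b : ℕ∞} (ha : a < ⊤) (hb : b < ⊤) :
    (((a + b).toNat : ℕ) : ℤ) = (a.toNat : ℤ) + (b.toNat : ℤ) := by
  rw [ENat.toNat_add ha.ne hb.ne, Nat.cast_add]

section SES

variable {M₁ N₁ M₂ N₂ M₃ N₃ : Type v} [AddCommGroup M₁] [Module R M₁] [AddCommGroup N₁] [Module R N₁]
  [AddCommGroup M₂] [Module R M₂] [AddCommGroup N₂] [Module R N₂] [AddCommGroup M₃] [Module R M₃]
  [AddCommGroup N₃] [Module R N₃]
  (φ₁ : M₁ →ₗ[R] N₁) (ψ₁ : N₁ →ₗ[R] M₁) (φ₂ : M₂ →ₗ[R] N₂) (ψ₂ : N₂ →ₗ[R] M₂) (φ₃ : M₃ →ₗ[R] N₃) (ψ₃ : N₃ →ₗ[R] M₃)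
  (f₁ : M₁ →ₗ[R] M₂) (g₁ : N₁ →ₗ[R] N₂) (f₂ : M₂ →ₗ[R] M₃) (g₂ : N₂ →ₗ[R] N₃)

theorem half (h₁ : CycAlg.IsPeriodic φ₁ ψ₁) (h₂ : CycAlg.IsPeriodic φ₂ ψ₂) (h₃ : CycAlg.IsPeriodic φ₃ ψ₃)
    (cφ₁ : φ₂ ∘ₗ f₁ = g₁ ∘ₗ φ₁) (cψ₁ : ψ₂ ∘ₗ g₁ = f₁ ∘ₗ ψ₁) (cφ₂ : φ₃ ∘ₗ f₂ = g₂ ∘ₗ φ₂)
    (cψ₂ : ψ₃ ∘ₗ g₂ = f₂ ∘ₗ ψ₂) (hf₁ : Function.Injective f₁) (hg₁ : Function.Injective g₁)
    (hf₂ : Function.Surjective f₂) (hg₂ : Function.Surjective g₂)
    (hM : range f₁ = ker f₂) (hN : range g₁ = ker g₂) :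
    rlen (ker φ₁) (range ψ₁) =
        rlen (ker φ₂ ⊓ range f₁) (range ψ₂) + rlen (range ψ₂ ⊓ range f₁) ((range ψ₁).map f₁) ∧
    rlen (ker φ₂) (range ψ₂) = rlen ((ker φ₂).map f₂) (range ψ₃) + rlen (ker φ₂ ⊓ range f₁) (range ψ₂) ∧
    rlen (ker φ₃) (range ψ₃) =
        rlen (range φ₂ ⊓ range g₁) ((range φ₁).map g₁) + rlen ((ker φ₂).map f₂) (range ψ₃) := by
  have hBK : range ψ₂ ≤ ker φ₂ := by
    rintro _ ⟨y, rfl⟩; exact LinearMap.mem_ker.mpr (LinearMap.congr_fun h₂.1 y)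
  have hmapB : (range ψ₂).map f₂ = range ψ₃ := by
    rw [← range_comp, ← cψ₂, range_comp_of_range_eq_top _ (range_eq_top.mpr hg₂)]
  have hK1 : (ker φ₁).map f₁ = ker φ₂ ⊓ range f₁ := by
    ext x
    constructor
    · rintro ⟨a, ha, rfl⟩
      refine ⟨?_, a, rfl⟩
      rw [SetLike.mem_coe, LinearMap.mem_ker] at ha ⊢
      rw [← LinearMap.comp_apply, cφ₁, LinearMap.comp_apply, ha, map_zero]
    · rintro ⟨hx, a, rfl⟩
      refine ⟨a, ?_, rfl⟩
      rw [SetLike.mem_coe, LinearMap.mem_ker] at hx ⊢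
      rw [← LinearMap.comp_apply, cφ₁, LinearMap.comp_apply] at hx
      exact hg₁ (by rw [hx, map_zero])
  refine ⟨?_, ?_, ?_⟩
  · have hsub : (range ψ₁).map f₁ ≤ range ψ₂ ⊓ range f₁ := by
      refine le_inf ?_ map_le_range
      rw [← range_comp, ← cψ₁]
      exact range_comp_le_range _ _
    rw [← rlen_bot_map hf₁ (ker φ₁) (range ψ₁), hK1,
      rlen_trans hsub (inf_le_inf_right _ hBK)]
    congr 1
    rw [← rlen_inf, ← rlen_inf (ker φ₂ ⊓ range f₁) (range ψ₂)]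
    congr 1
    rw [inf_assoc, inf_assoc, inf_comm (range f₁) (range ψ₂), ← inf_assoc (range f₁), inf_comm (range f₁) (range ψ₂),
      inf_assoc (range ψ₂), inf_idem]
  · rw [rlen_split f₂ hBK, hmapB, hM]
  · have hKf : (ker φ₂).map f₂ ≤ ker φ₃ := by
      rintro _ ⟨a, ha, rfl⟩
      rw [SetLike.mem_coe, LinearMap.mem_ker] at ha
      rw [LinearMap.mem_ker, ← LinearMap.comp_apply, cφ₂, LinearMap.comp_apply, ha, map_zero]
    have hBf : range ψ₃ ≤ (ker φ₂).map f₂ := by rw [← hmapB]; exact Submodule.map_mono hBK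
    rw [rlen_trans hBf hKf]
    congr 1
    set Z := (ker φ₃).comap f₂
    have hZ : Z = (range g₁).comap φ₂ := by
      rw [hN, ← ker_comp, ← cφ₂, ker_comp]
    calc rlen (ker φ₃) ((ker φ₂).map f₂) = rlen (Z.map f₂) ((ker φ₂).map f₂) := by
          rw [Submodule.map_comap_eq, range_eq_top.mpr hf₂, top_inf_eq]
      _ = rlen Z (ker φ₂ ⊔ range f₁) := by rw [rlen_map, hM]
      _ = rlen (Z.map φ₂) ((range f₁).map φ₂) := by rw [rlen_map, sup_comm]
      _ = _ := by rw [hZ, Submodule.map_comap_eq, ← range_comp f₁ φ₂, cφ₁, range_comp]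

theorem herbrand_shortExact (h₁ : CycAlg.IsPeriodic φ₁ ψ₁) (h₂ : CycAlg.IsPeriodic φ₂ ψ₂) (h₃ : CycAlg.IsPeriodic φ₃ ψ₃)
    (cφ₁ : φ₂ ∘ₗ f₁ = g₁ ∘ₗ φ₁) (cψ₁ : ψ₂ ∘ₗ g₁ = f₁ ∘ₗ ψ₁) (cφ₂ : φ₃ ∘ₗ f₂ = g₂ ∘ₗ φ₂)
    (cψ₂ : ψ₃ ∘ₗ g₂ = f₂ ∘ₗ ψ₂) (hf₁ : Function.Injective f₁) (hg₁ : Function.Injective g₁)
    (hf₂ : Function.Surjective f₂) (hg₂ : Function.Surjective g₂)
    (hM : range f₁ = ker f₂) (hN : range g₁ = ker g₂)
    (htwo : (CycAlg.FinCoh R φ₁ ψ₁ ∧ CycAlg.FinCoh R φ₂ ψ₂) ∨ (CycAlg.FinCoh R φ₁ ψ₁ ∧ CycAlg.FinCoh R φ₃ ψ₃) ∨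
      (CycAlg.FinCoh R φ₂ ψ₂ ∧ CycAlg.FinCoh R φ₃ ψ₃)) :
    CycAlg.FinCoh R φ₁ ψ₁ ∧ CycAlg.FinCoh R φ₂ ψ₂ ∧ CycAlg.FinCoh R φ₃ ψ₃ ∧
      CycAlg.herbrand R φ₂ ψ₂ = CycAlg.herbrand R φ₁ ψ₁ + CycAlg.herbrand R φ₃ ψ₃ := by
  obtain ⟨e1, e2, e3⟩ := half φ₁ ψ₁ φ₂ ψ₂ φ₃ ψ₃ f₁ g₁ f₂ g₂ h₁ h₂ h₃ cφ₁ cψ₁ cφ₂ cψ₂ hf₁ hg₁ hf₂ hg₂ hM hN
  obtain ⟨e4, e5, e6⟩ := half ψ₁ φ₁ ψ₂ φ₂ ψ₃ φ₃ g₁ f₁ g₂ f₂ ⟨h₁.2, h₁.1⟩ ⟨h₂.2, h₂.1⟩ ⟨h₃.2, h₃.1⟩ cψ₁ cφ₁ cψ₂ cφ₂
    hg₁ hf₁ hg₂ hf₂ hN hM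
  simp only [CycAlg.FinCoh, CycAlg.herbrand, length_perH, e1, e2, e3, e4, e5, e6, enat_add_lt_top] at htwo ⊢
  set a := rlen (ker φ₂ ⊓ range f₁) (range ψ₂)
  set e := rlen (range ψ₂ ⊓ range f₁) ((range ψ₁).map f₁)
  set b := rlen ((ker φ₂).map f₂) (range ψ₃)
  set a' := rlen (ker ψ₂ ⊓ range g₁) (range φ₂)
  set c := rlen (range φ₂ ⊓ range g₁) ((range φ₁).map g₁)
  set b' := rlen ((ker ψ₂).map g₂) (range φ₃)
  have hall : a < ⊤ ∧ e < ⊤ ∧ b < ⊤ ∧ a' < ⊤ ∧ c < ⊤ ∧ b' < ⊤ := by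
    rcases htwo with ⟨⟨p, q⟩, r, s⟩ | ⟨⟨p, q⟩, r, s⟩ | ⟨⟨p, q⟩, r, s⟩ <;>
      refine ⟨?_, ?_, ?_, ?_, ?_, ?_⟩ <;> first
        | exact p.1 | exact p.2 | exact q.1 | exact q.2 | exact r.1 | exact r.2 | exact s.1 | exact s.2
  obtain ⟨ha, he, hb, ha', hc, hb'⟩ := hall
  refine ⟨⟨⟨ha, he⟩, ha', hc⟩, ⟨⟨hb, ha⟩, hb', ha'⟩, ⟨⟨hc, hb⟩, he, hb'⟩, ?_⟩
  rw [toNat_cast_add ha he, toNat_cast_add hb ha, toNat_cast_add hc hb, toNat_cast_add ha' hc, toNat_cast_add hb' ha',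
    toNat_cast_add he hb']
  ring

end SES

section

variable {M N : Type v} [AddCommGroup M] [Module R M] [AddCommGroup N] [Module R N]

theorem length_eq_ker_range (φ : M →ₗ[R] N) (ψ : N →ₗ[R] M) (h : φ ∘ₗ ψ = 0) :
    Module.length R M = Module.length R (range φ) + rlen (ker φ) (range ψ) + Module.length R (range ψ) := by
  have hle : range ψ ≤ ker φ := range_le_ker_iff.mpr h
  rw [← rlen_top_bot, rlen_trans (C := ker φ) bot_le le_top, rlen_trans (C := range ψ) bot_le hle, rlen_bot (range ψ),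
    ← rlen_bot (range φ), ← add_assoc]
  congr 2
  have := rlen_map φ ⊤ ⊥
  rw [Submodule.map_top, Submodule.map_bot, bot_sup_eq] at this
  exact this.symm

theorem herbrand_finite_length (φ : M →ₗ[R] N) (ψ : N →ₗ[R] M) (h : CycAlg.IsPeriodic φ ψ)
    (hM : Module.length R M < ⊤) (hN : Module.length R N < ⊤) :
    CycAlg.FinCoh R φ ψ ∧
      CycAlg.herbrand R φ ψ = ((Module.length R M).toNat : ℤ) - ((Module.length R N).toNat : ℤ) := by
  rw [length_eq_ker_range φ ψ h.1] at hM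
  rw [length_eq_ker_range ψ φ h.2] at hN
  rw [CycAlg.FinCoh, CycAlg.herbrand, length_perH, length_perH, length_eq_ker_range φ ψ h.1, length_eq_ker_range ψ φ h.2]
  simp only [enat_add_lt_top] at hM hN
  obtain ⟨⟨h1, h2⟩, h3⟩ := hM
  obtain ⟨⟨-, h5⟩, -⟩ := hN
  refine ⟨⟨h2, h5⟩, ?_⟩
  rw [toNat_cast_add (enat_add_lt_top.mpr ⟨h1, h2⟩) h3, toNat_cast_add h1 h2,
    toNat_cast_add (enat_add_lt_top.mpr ⟨h3, h5⟩) h1, toNat_cast_add h3 h5]
  ring

end

section

variable {M M' : Type v} [AddCommGroup M] [Module R M] [AddCommGroup M'] [Module R M']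

theorem herbrand_eq_of_finite (φ ψ : M →ₗ[R] M) (φ' ψ' : M' →ₗ[R] M') (h : CycAlg.IsPeriodic φ ψ)
    (h' : CycAlg.IsPeriodic φ' ψ') (f : M →ₗ[R] M') (cφ : φ' ∘ₗ f = f ∘ₗ φ) (cψ : ψ' ∘ₗ f = f ∘ₗ ψ)
    (hfin : CycAlg.FinCoh R φ ψ) (hfin' : CycAlg.FinCoh R φ' ψ') (hker : Module.length R (ker f) < ⊤)
    (hcoker : Module.length R (M' ⧸ range f) < ⊤) : CycAlg.herbrand R φ ψ = CycAlg.herbrand R φ' ψ' := by
  have kmem : ∀ (θ : M →ₗ[R] M) (θ' : M' →ₗ[R] M'), θ' ∘ₗ f = f ∘ₗ θ → ∀ x ∈ ker f, θ x ∈ ker f := by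
    intro θ θ' c x hx
    rw [LinearMap.mem_ker] at hx ⊢
    rw [← LinearMap.comp_apply, ← c, LinearMap.comp_apply, hx, map_zero]
  have imem : ∀ (θ : M →ₗ[R] M) (θ' : M' →ₗ[R] M'), θ' ∘ₗ f = f ∘ₗ θ → ∀ y ∈ range f, θ' y ∈ range f := by
    rintro θ θ' c _ ⟨x, rfl⟩
    exact ⟨θ x, by rw [← LinearMap.comp_apply, ← LinearMap.comp_apply θ', c]⟩
  have qle : ∀ (θ : M →ₗ[R] M) (θ' : M' →ₗ[R] M'), θ' ∘ₗ f = f ∘ₗ θ → range f ≤ (range f).comap θ' :=
    fun θ θ' c y hy => imem θ θ' c y hy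
  set K1 := φ.restrict (kmem φ φ' cφ)
  set K2 := ψ.restrict (kmem ψ ψ' cψ)
  set I1 := φ'.restrict (imem φ φ' cφ)
  set I2 := ψ'.restrict (imem ψ ψ' cψ)
  set C1 := (range f).mapQ (range f) φ' (qle φ φ' cφ)
  set C2 := (range f).mapQ (range f) ψ' (qle ψ ψ' cψ)
  have hK : CycAlg.IsPeriodic K1 K2 :=
    ⟨LinearMap.ext fun x => Subtype.ext (LinearMap.congr_fun h.1 x.1),
      LinearMap.ext fun x => Subtype.ext (LinearMap.congr_fun h.2 x.1)⟩
  have hI : CycAlg.IsPeriodic I1 I2 :=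
    ⟨LinearMap.ext fun x => Subtype.ext (LinearMap.congr_fun h'.1 x.1),
      LinearMap.ext fun x => Subtype.ext (LinearMap.congr_fun h'.2 x.1)⟩
  have hC : CycAlg.IsPeriodic C1 C2 :=
    ⟨Submodule.linearMap_qext _ (LinearMap.ext fun x => by
        simp only [C1, C2, LinearMap.comp_apply, Submodule.mkQ_apply, Submodule.mapQ_apply, LinearMap.zero_apply]
        rw [show φ' (ψ' x) = 0 from LinearMap.congr_fun h'.1 x, Submodule.Quotient.mk_zero]),
      Submodule.linearMap_qext _ (LinearMap.ext fun x => by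
        simp only [C1, C2, LinearMap.comp_apply, Submodule.mkQ_apply, Submodule.mapQ_apply, LinearMap.zero_apply]
        rw [show ψ' (φ' x) = 0 from LinearMap.congr_fun h'.2 x, Submodule.Quotient.mk_zero])⟩
  obtain ⟨fK, eK⟩ := herbrand_finite_length K1 K2 hK hker hker
  obtain ⟨fC, eC⟩ := herbrand_finite_length C1 C2 hC hcoker hcoker
  rw [sub_self] at eK eC
  obtain ⟨-, -, -, e1⟩ := herbrand_shortExact K1 K2 φ ψ I1 I2 (ker f).subtype (ker f).subtype f.rangeRestrict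
    f.rangeRestrict hK h hI rfl rfl (LinearMap.ext fun x => Subtype.ext (LinearMap.congr_fun cφ x))
    (LinearMap.ext fun x => Subtype.ext (LinearMap.congr_fun cψ x)) (Submodule.injective_subtype _)
    (Submodule.injective_subtype _) f.surjective_rangeRestrict f.surjective_rangeRestrict
    (by rw [Submodule.range_subtype, ker_rangeRestrict]) (by rw [Submodule.range_subtype, ker_rangeRestrict])
    (Or.inl ⟨fK, hfin⟩)
  obtain ⟨-, -, -, e2⟩ := herbrand_shortExact I1 I2 φ' ψ' C1 C2 (range f).subtype (range f).subtype (range f).mkQ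
    (range f).mkQ hI h' hC rfl rfl rfl rfl (Submodule.injective_subtype _)
    (Submodule.injective_subtype _) (Submodule.mkQ_surjective _) (Submodule.mkQ_surjective _)
    (by rw [Submodule.range_subtype, Submodule.ker_mkQ]) (by rw [Submodule.range_subtype, Submodule.ker_mkQ])
    (Or.inr (Or.inr ⟨hfin', fC⟩))
  rw [e1, e2, eK, eC, zero_add, add_zero]

end

section pow

variable {M : Type v} [AddCommGroup M] [Module R M]

theorem herbrand_pow (φ : M →ₗ[R] M) (n : ℕ) (hn : 0 < n) (hφ : φ ^ n = 0)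
    (hfin : Module.length R (CycAlg.perH φ (φ ^ (n - 1))) < ⊤) (i : ℕ) (hi : i ≤ n) :
    CycAlg.FinCoh R (φ ^ i) (φ ^ (n - i)) ∧ CycAlg.herbrand R (φ ^ i) (φ ^ (n - i)) = 0 := by
  have hcomp : ∀ p q : ℕ, (φ ^ p) ∘ₗ (φ ^ q) = φ ^ (p + q) := fun p q => by rw [pow_add]; rfl
  have hmap : ∀ p q : ℕ, (range (φ ^ q)).map (φ ^ p) = range (φ ^ (p + q)) := fun p q => by
    rw [← range_comp, hcomp]
  have hRK : ∀ p q : ℕ, p + q = n → range (φ ^ q) ≤ ker (φ ^ p) := fun p q h => by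
    rw [range_le_ker_iff, hcomp, h, hφ]
  set a : ℕ → ℕ∞ := fun i => rlen (ker (φ ^ i)) (range (φ ^ (n - i)))
  set b : ℕ → ℕ∞ := fun i => rlen (ker (φ ^ i)) (range φ)
  set c : ℕ → ℕ∞ := fun i => rlen (ker φ ⊓ range (φ ^ i)) (range (φ ^ (n - 1)))
  have hker : ∀ i, (ker (φ ^ (i + 1))).map φ = range φ ⊓ ker (φ ^ i) := fun i => by
    rw [pow_succ, Module.End.mul_eq_comp, ker_comp, Submodule.map_comap_eq]
  have E1 : ∀ i, i < n → a (i + 1) + b i + c (n - 1 - i) = a i + a 1 := by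
    intro i hi
    have hm : n - (i + 1) = n - 1 - i := by omega
    have hle : range (φ ^ (n - i)) ≤ range φ ⊓ ker (φ ^ i) := by
      refine le_inf ?_ (hRK i (n - i) (by omega))
      rw [show n - i = 1 + (n - i - 1) by omega, ← hcomp, pow_one]
      exact range_comp_le_range _ _
    have h1 : a (i + 1) = rlen (range φ ⊓ ker (φ ^ i)) (range (φ ^ (n - i))) + rlen (ker φ) (range (φ ^ (n - 1 - i))) := by
      simp only [a]
      rw [rlen_split φ (hRK (i + 1) (n - (i + 1)) (by omega)), hker, show (range (φ ^ (n - (i + 1)))).map φ = range (φ ^ (n - i)) by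
        conv_lhs => rw [← pow_one φ]
        rw [← pow_mul, one_mul, hmap, show 1 + (n - (i + 1)) = n - i by omega],
        inf_eq_right.mpr (show ker φ ≤ ker (φ ^ (i + 1)) by rw [pow_succ, Module.End.mul_eq_comp]; exact ker_le_ker_comp _ _), hm]
    have h2 : a i = b i + rlen (range φ ⊓ ker (φ ^ i)) (range (φ ^ (n - i))) := by
      simp only [a, b]
      rw [rlen_trans hle inf_le_right, inf_comm, rlen_inf]
    have h3 : a 1 = rlen (ker φ) (range (φ ^ (n - 1 - i))) + c (n - 1 - i) := by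
      simp only [a, c]
      rw [pow_one, ← rlen_inf (ker φ) (range (φ ^ (n - 1 - i)))]
      refine rlen_trans (le_inf (by simpa using hRK 1 (n - 1) (by omega)) ?_) inf_le_left
      rw [show n - 1 = (n - 1 - i) + i by omega, ← hcomp]
      refine le_trans (range_comp_le_range _ _) ?_
      rw [show n - 1 - i + i - i = n - 1 - i by omega]
    rw [h1, h2, h3]
    ring
  have E2 : ∀ i, i + 1 < n → b (i + 1) + c (i + 1) = b i + c i := by
    intro i hi
    set A := ker (φ ^ (i + 1))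
    set K := ker (φ ^ i)
    have hKA : K ≤ A := by rw [show A = ker (φ * φ ^ i) from by rw [← pow_succ'], Module.End.mul_eq_comp]; exact ker_le_ker_comp _ _
    set G := rlen A (K ⊔ range φ)
    have h1 : b (i + 1) = G + b i := by
      have e : rlen A (range φ) = rlen A (A ⊓ (K ⊔ range φ)) + rlen (A ⊓ (K ⊔ range φ)) (range φ) := by
        rw [← rlen_inf A (range φ), rlen_trans (C := A ⊓ (K ⊔ range φ)) (inf_le_inf_left _ le_sup_right) inf_le_left]
        congr 1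
        rw [← rlen_inf (A ⊓ (K ⊔ range φ)) (range φ), inf_assoc, inf_eq_right.mpr (le_sup_right : range φ ≤ K ⊔ range φ)]
      change rlen A (range φ) = G + rlen K (range φ)
      rw [e, rlen_inf]
      congr 1
      rw [← rlen_sup K, ← rlen_sup (A ⊓ (K ⊔ range φ))]
      congr 1
      refine le_antisymm (sup_le inf_le_right le_sup_right) (sup_le ?_ le_sup_right)
      exact le_trans (le_inf hKA le_sup_left) le_sup_left
    have h2 : c i = G + c (i + 1) := by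
      have hmA : A.map (φ ^ i) = ker φ ⊓ range (φ ^ i) := by
        change (ker (φ ^ (i + 1))).map (φ ^ i) = _
        rw [pow_succ', Module.End.mul_eq_comp, ker_comp, Submodule.map_comap_eq, inf_comm]
      have hmR : (range φ).map (φ ^ i) = range (φ ^ (i + 1)) := by
        conv_lhs => rw [← pow_one φ]
        rw [← pow_mul, one_mul, hmap]
      have hG : G = rlen (ker φ ⊓ range (φ ^ i)) (range (φ ^ (i + 1))) := by
        rw [← hmA, ← hmR, rlen_map, sup_comm]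
      simp only [c]
      rw [hG, ← rlen_inf (ker φ ⊓ range (φ ^ i)) (range (φ ^ (i + 1))), inf_assoc,
        inf_eq_right.mpr (show range (φ ^ (i + 1)) ≤ range (φ ^ i) by rw [← hcomp]; exact range_comp_le_range _ _)]
      refine rlen_trans (le_inf (by simpa using hRK 1 (n - 1) (by omega)) ?_)
        (inf_le_inf_left _ (by rw [← hcomp]; exact range_comp_le_range _ _))
      rw [show n - 1 = (i + 1) + (n - 1 - (i + 1)) by omega, ← hcomp]
      exact range_comp_le_range _ _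
    rw [h1, h2]
    ring
  have ha0 : a 0 = 0 := rlen_eq_zero (by rw [pow_zero, Module.End.one_eq_id, ker_id]; exact bot_le)
  have hb0 : b 0 = 0 := rlen_eq_zero (by rw [pow_zero, Module.End.one_eq_id, ker_id]; exact bot_le)
  have ha1 : a 1 < ⊤ := by simp only [a, pow_one]; exact hfin
  have hc0 : c 0 = a 1 := by
    simp only [c, a, pow_zero, pow_one, Module.End.one_eq_id, range_id, inf_top_eq]
  have hbc : ∀ i, i < n → b i + c i = a 1 := by
    intro i hi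
    induction i with
    | zero => rw [hb0, hc0, zero_add]
    | succ i ih => rw [E2 i hi, ih (by omega)]
  have hfa : ∀ i, i ≤ n → a i < ⊤ := by
    intro i hi
    induction i with
    | zero => rw [ha0]; exact ENat.top_pos
    | succ i ih =>
      have h := E1 i (by omega)
      exact lt_top_of_add_left (lt_top_of_add_left (h ▸ enat_add_lt_top.mpr ⟨ih (by omega), ha1⟩))
  have hstep : ∀ i, i < n → ((a (i + 1)).toNat : ℤ) - (a i).toNat = ((c i).toNat : ℤ) - (c (n - 1 - i)).toNat := by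
    intro i hi
    have hb : b i < ⊤ := lt_top_of_add_left ((hbc i hi).symm ▸ ha1)
    have hc : c i < ⊤ := lt_top_of_add_right ((hbc i hi).symm ▸ ha1)
    have hc' : c (n - 1 - i) < ⊤ := lt_top_of_add_right ((hbc (n - 1 - i) (by omega)).symm ▸ ha1)
    have h := congrArg (fun x : ℕ∞ => ((x.toNat : ℕ) : ℤ)) (E1 i hi)
    rw [toNat_cast_add (enat_add_lt_top.mpr ⟨hfa (i + 1) hi, hb⟩) hc', toNat_cast_add (hfa (i + 1) hi) hb,
      toNat_cast_add (hfa i hi.le) ha1] at h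
    have h2 := congrArg (fun x : ℕ∞ => ((x.toNat : ℕ) : ℤ)) (hbc i hi)
    rw [toNat_cast_add hb hc] at h2
    linarith
  have han : a n = 0 := rlen_eq_zero (by rw [Nat.sub_self, pow_zero φ, Module.End.one_eq_id, range_id]; exact le_top)
  have hsym : ∀ i, i ≤ n → ((a i).toNat : ℤ) = (a (n - i)).toNat := by
    intro i hi
    induction i with
    | zero => rw [ha0, Nat.sub_zero, han]
    | succ i ih =>
      have h1 := hstep i (by omega)
      have h2 := hstep (n - (i + 1)) (by omega)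
      rw [show n - (i + 1) + 1 = n - i by omega, show n - 1 - (n - (i + 1)) = i by omega,
        show n - (i + 1) = n - 1 - i by omega] at h2
      rw [show n - (i + 1) = n - 1 - i by omega]
      have := ih (by omega)
      linarith
  have hii : rlen (ker (φ ^ (n - i))) (range (φ ^ i)) = a (n - i) := by
    simp only [a]; rw [Nat.sub_sub_self hi]
  refine ⟨⟨hfa i hi, ?_⟩, ?_⟩
  · rw [length_perH, hii]; exact hfa (n - i) (by omega)
  · rw [CycAlg.herbrand, length_perH, length_perH, hii]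
    exact sub_eq_zero.mpr (hsym i hi)

end pow

section smul

variable {M : Type v} [AddCommGroup M] [Module R M]

theorem smul_herbrand (φ ψ : M →ₗ[R] M) (hper : CycAlg.IsPeriodic φ ψ) (hfin : CycAlg.FinCoh R φ ψ) (x : R)
    (hker : rlen (ker (x • φ)) (ker φ) < ⊤) (hq : rlen (range φ) (range (x • φ)) < ⊤) :
    CycAlg.FinCoh R (x • φ) ψ ∧
      CycAlg.herbrand R (x • φ) ψ = CycAlg.herbrand R φ ψ -
        CycAlg.herbrand R (0 : ↥(range φ) →ₗ[R] ↥(range φ)) (x • LinearMap.id) := by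
  have h1 : range ψ ≤ ker φ := range_le_ker_iff.mpr hper.1
  have h2 : range φ ≤ ker ψ := range_le_ker_iff.mpr hper.2
  have hk : ker φ ≤ ker (x • φ) := fun m hm => by simp [LinearMap.mem_ker.mp hm]
  have hr : range (x • φ) ≤ range φ := by
    rintro _ ⟨m, rfl⟩; exact ⟨x • m, by simp⟩
  have e0 : rlen (ker (x • φ)) (range ψ) = rlen (ker (x • φ)) (ker φ) + rlen (ker φ) (range ψ) := rlen_trans h1 hk
  have e1 : rlen (ker ψ) (range (x • φ)) = rlen (ker ψ) (range φ) + rlen (range φ) (range (x • φ)) := rlen_trans hr h2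
  set I := range φ
  have eI1 : rlen (ker (0 : ↥I →ₗ[R] ↥I)) (range (x • (LinearMap.id : ↥I →ₗ[R] ↥I))) = rlen I (range (x • φ)) := by
    rw [← rlen_bot_map (Submodule.injective_subtype I), LinearMap.ker_zero, Submodule.map_top, Submodule.range_subtype]
    congr 1
    ext m
    constructor
    · rintro ⟨_, ⟨y, rfl⟩, rfl⟩
      obtain ⟨z, hz⟩ := y.2
      exact ⟨z, by simp [hz]⟩
    · rintro ⟨z, rfl⟩
      exact ⟨x • (⟨φ z, z, rfl⟩ : ↥I), ⟨⟨φ z, z, rfl⟩, rfl⟩, rfl⟩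
  have eI2 : rlen (ker (x • (LinearMap.id : ↥I →ₗ[R] ↥I))) (range (0 : ↥I →ₗ[R] ↥I)) = rlen (ker (x • φ)) (ker φ) := by
    have hkr : (ker (x • φ)).map φ = (ker (x • (LinearMap.id : ↥I →ₗ[R] ↥I))).map I.subtype := by
      ext m
      constructor
      · rintro ⟨z, hz, rfl⟩
        exact ⟨⟨φ z, z, rfl⟩, Subtype.ext (by simpa using hz), rfl⟩
      · rintro ⟨⟨_, z, rfl⟩, hy, rfl⟩
        exact ⟨z, by simpa using congrArg Subtype.val hy, rfl⟩
    rw [← rlen_bot_map (Submodule.injective_subtype I), LinearMap.range_zero, Submodule.map_bot, ← hkr,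
      ← Submodule.map_bot φ, rlen_map, bot_sup_eq]
  obtain ⟨f0, f1⟩ := hfin
  rw [length_perH] at f0 f1
  refine ⟨⟨?_, ?_⟩, ?_⟩
  · rw [length_perH, e0]; exact enat_add_lt_top.mpr ⟨hker, f0⟩
  · rw [length_perH, e1]; exact enat_add_lt_top.mpr ⟨f1, hq⟩
  · simp only [CycAlg.herbrand, length_perH, eI1, eI2, e0, e1]
    rw [toNat_cast_add hker f0, toNat_cast_add f1 hq]
    ring

open IsLocalRing in
theorem smul_finite [IsNoetherianRing R] [IsLocalRing R] [Module.Finite R M] (φ : M →ₗ[R] M) (x : R)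
    (hx : Module.supportDim R (M ⧸ x • (⊤ : Submodule R M)) ≤ 0) :
    rlen (ker (x • φ)) (ker φ) < ⊤ ∧ rlen (range φ) (range (x • φ)) < ⊤ := by
  haveI : IsNoetherian R M := isNoetherian_of_isNoetherianRing_of_finite R M
  have hsupp : ∀ p : PrimeSpectrum R, p ∈ Module.support R M → x ∈ p.asIdeal → p = closedPoint R := by
    intro p hp hxp
    have hpq : p ∈ Module.support R (M ⧸ x • (⊤ : Submodule R M)) := by
      rw [← Submodule.ideal_span_singleton_smul, Module.support_quotient]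
      exact ⟨hp, by simpa [PrimeSpectrum.mem_zeroLocus, Set.singleton_subset_iff] using hxp⟩
    have hne : Module.support R (M ⧸ x • (⊤ : Submodule R M)) ≠ ∅ := fun h => by rw [h] at hpq; exact hpq
    have : Nontrivial (M ⧸ x • (⊤ : Submodule R M)) := by
      by_contra hnt
      rw [not_nontrivial_iff_subsingleton] at hnt
      exact hne Module.support_eq_empty
    have h0 : Module.supportDim R (M ⧸ x • (⊤ : Submodule R M)) = 0 :=
      le_antisymm hx (by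
        rw [Module.supportDim]
        haveI : Nonempty (Module.support R (M ⧸ x • (⊤ : Submodule R M))) := ⟨⟨p, hpq⟩⟩
        exact Order.krullDim_nonneg)
    rw [support_of_supportDim_eq_zero (dim := h0), PrimeSpectrum.zeroLocus_eq_singleton] at hpq
    exact hpq
  have fin : ∀ (N : Type v) [AddCommGroup N] [Module R N] [Module.Finite R N],
      Module.support R N ⊆ Module.support R M → (∀ n : N, x • n = 0) → Module.length R N < ⊤ := by
    intro N _ _ _ hs hx0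
    refine length_lt_top_of_support_subset fun p hp => hsupp p (hs hp) ?_
    rw [Module.support_eq_zeroLocus, PrimeSpectrum.mem_zeroLocus] at hp
    exact hp (Module.mem_annihilator.mpr hx0)
  constructor
  · refine fin _ ((Module.support_subset_of_surjective _ (Submodule.mkQ_surjective _)).trans
      (Module.support_subset_of_injective _ (Submodule.injective_subtype _))) ?_
    intro q
    obtain ⟨y, rfl⟩ := Submodule.Quotient.mk_surjective _ q
    rw [← Submodule.Quotient.mk_smul, Submodule.Quotient.mk_eq_zero]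
    simp only [Submodule.submoduleOf, Submodule.mem_comap, LinearMap.mem_ker, Submodule.subtype_apply, map_smul]
    exact LinearMap.mem_ker.mp y.2
  · refine fin _ ((Module.support_subset_of_surjective _ (Submodule.mkQ_surjective _)).trans
      (Module.support_subset_of_injective _ (Submodule.injective_subtype _))) ?_
    intro q
    obtain ⟨⟨_, z, rfl⟩, rfl⟩ := Submodule.Quotient.mk_surjective _ q
    rw [← Submodule.Quotient.mk_smul, Submodule.Quotient.mk_eq_zero]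
    exact ⟨z, by simp⟩

theorem herbrand_swap {A B : Type v} [AddCommGroup A] [Module R A] [AddCommGroup B] [Module R B] (φ : A →ₗ[R] B)
    (ψ : B →ₗ[R] A) : CycAlg.herbrand R ψ φ = -CycAlg.herbrand R φ ψ := by
  simp only [CycAlg.herbrand]; ring

end smul

end Groth.Agent.CycAlgLib
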